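-- Certificate data for FS4; generated by a coset enumerator, checked by the kernel.
import Cfsg.Agent.Lib.Compute.TCFast

set_option autoImplicit false
set_option maxRecDepth 1000000

open Cfsg.Agent.Lib.Compute.ToddCoxeterCore Cfsg.Agent.Lib.Compute.ToddCoxeterPresented Cfsg.Agent.Lib.Compute.TCFast

namespace Cfsg.Agent.Lib.Compute.TC.FS4

/-- the packed entries -/
noncomputable def tE : TT := .leaf (nat_lit 0xffffff00000000000000182000045000016000000000020000470000150000000014300004400001400000000000ffffff00000000020000173000046000017000000000020000410000130000000012300004000001200000000000ffffff0000000000000018200003d000011000100001730000480000170000000010300003c00001000000000000ffffff000000000000000c2000039000012000100000f300003800000f0000000000100004300001700000000000ffffff0000000000000018200003500000e00010000163000042000016000000000d300003400000d00000000000ffffff0000000002000014300003a000014000100000c300003200000c0000000000100003f00001600000000000ffffff0000000002000015300003e0000150000000000200002f00000e000000000b3000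02e00000b00000000000ffffff000000000000000c200002b00000b000100000a300002a00000a0000000000100003b00001500000000000ffffff00000000020000093000026000009000000000010000370000140000000019200002700000a00000000000ffffff00000000020000133000036000013000100001130000300000110000000008300002400000800000000000ffffff000000000000000c2000021000008000100000730000200000070000000000100003300001300000000000ffffff0000000002000006300001c000006000000000010000310000120000000019200001d00000700000000000ffffff0000000002000010300002c0000100001000005300001a0000050000000000100002d00001100000000000ffffff0000000002000004300001800000400000000001000029000010000000000f300002800000f00000000000ffffff0000000000000000100002500000f000000000020000150000060000000004300001400000400000000000ffffff000000000200000d300002200000d000100000330000120000030000000000100002300000e00000000000ffffff000000000200000230000100000020000000000100001f00000d000000000c300001e00000c00000000000ffffff0000000000000000100001b00000c000100000930000160000090000000002300000e00000200000000000ffffff000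0000002000001300000a0000010000000000100001900000b0000000019200000b00000300000000000ffffff0000000000000000100001700000a000100000130000080000010000000000100001300000900000000000ffffff00000000020000003000006000000000000000010000110000080000000005300000c00000500000000000ffffff0000000000000000100000f000007000100000030000040000000000000000100000d00000600000000000ffffff00000000000000001000009000005000000000010000070000040000000000300000200000000000000000ffffff000000000000000010000050000030000000000100000300000200000000001000001000001)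
/-- the definitions -/
noncomputable def tP : TT := .leaf (nat_lit 0x5000000048000000400000003d00000034000000310000002c0000002900000026000000200000001d0000001a0000001500000012000000100000000d0000000a00000008000000060000000500000002000000010000000000000000)
/-- the parents -/
noncomputable def tQ : TT := .leaf (nat_lit 0x5000000048000000400000003d00000034000000310000002c0000002900000026000000200000001d0000001a0000001500000012000000100000000d0000000a00000008000000060000000500000002000000010000000000000000)
/-- the orbit tables -/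
noncomputable def tO : TT := .leaf (nat_lit 0x0)
/-- the rule table -/
noncomputable def rT : RT := .node (nat_lit 16) (.node (nat_lit 8) (.node (nat_lit 4) (.node (nat_lit 2) (.node (nat_lit 1) (.leaf (nat_lit 0) (nat_lit 1) [nat_lit 0, nat_lit 1, nat_lit 0, nat_lit 1, nat_lit 0]) (.leaf (nat_lit 1) (nat_lit 0) [nat_lit 1, nat_lit 0, nat_lit 1, nat_lit 0, nat_lit 1])) (.node (nat_lit 3) (.leaf (nat_lit 0) (nat_lit 1) [nat_lit 0, nat_lit 1, nat_lit 0, nat_lit 1, nat_lit 0]) (.leaf (nat_lit 1) (nat_lit 0) [nat_lit 1, nat_lit 0, nat_lit 1, nat_lit 0, nat_lit 1]))) (.node (nat_lit 6) (.node (nat_lit 5) (.leaf (nat_lit 0) (nat_lit 1) [nat_lit 0, nat_lit 1, nat_lit 0, nat_lit 1, nat_lit 0]) (.leaf (nat_lit 1) (nat_lit 0) [nat_lit 1, nat_lit 0, nat_lit 1, nat_lit 0, nat_lit 1])) (.node (nat_lit 7) (.leaf (nat_lit 1) (nat_lit 0) [nat_lit 1, nat_lit 0, nat_lit 1, nat_lit 0, nat_lit 1]) (.leaf (nat_lit 0) (nat_lit 1) [nat_lit 0, nat_lit 1, nat_lit 0, nat_lit 1, nat_lit 0])))) (.node (nat_lit 12) (.node (nat_lit 10) (.node (nat_lit 9)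 (.leaf (nat_lit 1) (nat_lit 0) [nat_lit 1, nat_lit 0, nat_lit 1, nat_lit 0, nat_lit 1]) (.leaf (nat_lit 0) (nat_lit 1) [nat_lit 0, nat_lit 1, nat_lit 0, nat_lit 1, nat_lit 0])) (.node (nat_lit 11) (.leaf (nat_lit 1) (nat_lit 0) [nat_lit 1, nat_lit 0, nat_lit 1, nat_lit 0, nat_lit 1]) (.leaf (nat_lit 0) (nat_lit 1) [nat_lit 0, nat_lit 1, nat_lit 0, nat_lit 1, nat_lit 0]))) (.node (nat_lit 14) (.node (nat_lit 13) (.leaf (nat_lit 12) (nat_lit 2) [nat_lit 1, nat_lit 2, nat_lit 1, nat_lit 2, nat_lit 1]) (.leaf (nat_lit 13) (nat_lit 1) [nat_lit 2, nat_lit 1, nat_lit 2, nat_lit 1, nat_lit 2])) (.node (nat_lit 15) (.leaf (nat_lit 12) (nat_lit 2) [nat_lit 1, nat_lit 2, nat_lit 1, nat_lit 2, nat_lit 1]) (.leaf (nat_lit 13) (nat_lit 1) [nat_lit 2, nat_lit 1, nat_lit 2, nat_lit 1, nat_lit 2]))))) (.node (nat_lit 24) (.node (nat_lit 20) (.node (nat_lit 18) (.node (nat_lit 17) (.leaf (nat_lit 12) (nat_lit 2) [nat_lit 1, nat_lit 2, nat_lit 1, nat_lit 2, nat_lit 1]) (.leaf (nat_lit 13) (nat_lit 1) [nat_lit 2, nat_lit 1, nat_lit 2, nat_lit 1,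 nat_lit 2])) (.node (nat_lit 19) (.leaf (nat_lit 13) (nat_lit 1) [nat_lit 2, nat_lit 1, nat_lit 2, nat_lit 1, nat_lit 2]) (.leaf (nat_lit 12) (nat_lit 2) [nat_lit 1, nat_lit 2, nat_lit 1, nat_lit 2, nat_lit 1]))) (.node (nat_lit 22) (.node (nat_lit 21) (.leaf (nat_lit 13) (nat_lit 1) [nat_lit 2, nat_lit 1, nat_lit 2, nat_lit 1, nat_lit 2]) (.leaf (nat_lit 12) (nat_lit 2) [nat_lit 1, nat_lit 2, nat_lit 1, nat_lit 2, nat_lit 1])) (.node (nat_lit 23) (.leaf (nat_lit 13) (nat_lit 1) [nat_lit 2, nat_lit 1, nat_lit 2, nat_lit 1, nat_lit 2]) (.leaf (nat_lit 12) (nat_lit 2) [nat_lit 1, nat_lit 2, nat_lit 1, nat_lit 2, nat_lit 1])))) (.node (nat_lit 28) (.node (nat_lit 26) (.node (nat_lit 25) (.leaf (nat_lit 24) (nat_lit 2) [nat_lit 0, nat_lit 2, nat_lit 0]) (.leaf (nat_lit 25) (nat_lit 0) [nat_lit 2, nat_lit 0, nat_lit 2])) (.node (nat_lit 27) (.leaf (nat_lit 24) (nat_lit 2) [nat_lit 0, nat_lit 2, nat_lit 0]) (.leaf (nat_lit 25) (nat_lit 0) [nat_lit 2, nat_lit 0, nat_lit 2]))) (.node (nat_lit 30) (.node (nat_lit 29) (.leaf (nat_lit 25)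 (nat_lit 0) [nat_lit 2, nat_lit 0, nat_lit 2]) (.leaf (nat_lit 24) (nat_lit 2) [nat_lit 0, nat_lit 2, nat_lit 0])) (.node (nat_lit 31) (.leaf (nat_lit 25) (nat_lit 0) [nat_lit 2, nat_lit 0, nat_lit 2]) (.leaf (nat_lit 24) (nat_lit 2) [nat_lit 0, nat_lit 2, nat_lit 0])))))
/-- the relators -/
def relsL : List (List ℕ) := [[nat_lit 1, nat_lit 0, nat_lit 1, nat_lit 0, nat_lit 1, nat_lit 0],
  [nat_lit 2, nat_lit 1, nat_lit 2, nat_lit 1, nat_lit 2, nat_lit 1],
  [nat_lit 2, nat_lit 0, nat_lit 2, nat_lit 0],
  [nat_lit 0, nat_lit 0],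
  [nat_lit 1, nat_lit 1],
  [nat_lit 2, nat_lit 2]]
/-- the subgroup words -/
def hwL : List (List ℕ) := []

/-- the certificate -/
noncomputable def cfg : Cfg :=
  mkCfg (fun k => TT.fld tE (nat_lit 92) (nat_lit 1023) (nat_lit 4951760157141521099596496895) k)
    (nat_lit 96) (nat_lit 24) (nat_lit 24) (nat_lit 3) (nat_lit 4)
    (fun x => x)
    (fun k => TT.fld tP (nat_lit 32) (nat_lit 1023) (nat_lit 4294967295) k)
    (fun k => TT.fld tQ (nat_lit 32) (nat_lit 1023) (nat_lit 4294967295) k)
    rT hwL

/-- the orbit certificate -/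
noncomputable def oc : OCert where
  oid := fun j => Nat.land (TT.fld tO (nat_lit 64) (nat_lit 1023) (nat_lit 18446744073709551615) j) (nat_lit 65535)
  prnt := fun j => Nat.land (Nat.shiftRight (TT.fld tO (nat_lit 64) (nat_lit 1023) (nat_lit 18446744073709551615) j) (nat_lit 16)) (nat_lit 16777215)
  pw := fun j => Nat.land (Nat.shiftRight (TT.fld tO (nat_lit 64) (nat_lit 1023) (nat_lit 18446744073709551615) j) (nat_lit 40)) (nat_lit 255)
  rk := fun j => Nat.shiftRight (TT.fld tO (nat_lit 64) (nat_lit 1023) (nat_lit 18446744073709551615) j) (nat_lit 48)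
  rep := fun d => List.getD [] d 0

/-- the relators -/
def rsL : List (FreeGroup (Fin 3)) := [(FreeGroup.of (0 : Fin 3)) * (FreeGroup.of (0 : Fin 3)),
  (FreeGroup.of (1 : Fin 3)) * (FreeGroup.of (1 : Fin 3)),
  (FreeGroup.of (2 : Fin 3)) * (FreeGroup.of (2 : Fin 3)),
  ((FreeGroup.of (0 : Fin 3)) * (FreeGroup.of (1 : Fin 3))) ^ 3,
  ((FreeGroup.of (1 : Fin 3)) * (FreeGroup.of (2 : Fin 3))) ^ 3,
  ((FreeGroup.of (0 : Fin 3)) * (FreeGroup.of (2 : Fin 3))) ^ 2]

/-- the group side of the certificate -/
def D : Data (Fin 3) where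
  lets := [(0,true),(1,true),(2,true)]
  rs := rsL
  Hs := []
  rels := relsL
  hw := hwL

end Cfsg.Agent.Lib.Compute.TC.FS4
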